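import Mathlib
import Groth.Prelude.Def_EtRam

/-!
# A criterion for `EtRam.IsTotallyRamified` (S7157)
-/

set_option autoImplicit false
universe u

namespace Groth.Agent.H8.TotRam

open Polynomial IsLocalRing

section Crit

variable {A : Type u} [CommRing A] [IsLocalRing A]
variable {R : Type u} [CommRing R] [IsDomain R] [ValuationRing R] [IsLocalRing R]
variable {L : Type u} [Field L]

omit [IsLocalRing A] in
lemma mem_of_integral_hom (V : ValuationSubring L) (g : A →+* L) (hg : ∀ a, g a ∈ V) (y : L)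
    (f : A[X]) (hf : f.Monic) (hy : eval₂ g y f = 0) : y ∈ V := by
  rw [← V.valuation_le_one_iff]
  have hint := Valuation.integer.integers V.valuation
  rw [← hint.isIntegral_iff_v_le_one]
  let c : A →+* V.valuation.integer := g.codRestrict _
    (fun a => (Valuation.mem_integer_iff _ _).mpr ((V.valuation_le_one_iff _).mpr (hg a)))
  refine ⟨f.map c, hf.map c, ?_⟩
  rw [Polynomial.eval₂_map]
  have : (algebraMap V.valuation.integer L).comp c = g := by ext a; rfl
  rw [this]; exact hy

lemma val_lt_one_of_inv_notMem (V : ValuationSubring L) {x : L} (hx : x⁻¹ ∉ V) :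
    V.valuation x < 1 := by
  by_contra h
  push Not at h
  apply hx
  rw [← V.valuation_le_one_iff, map_inv₀]
  exact inv_le_one_of_one_le₀ h

/-- the valuation subring `ι(R)` of `L`. -/
def rangeVS (ι : R →+* L) (h5 : ∀ y : L, ∃ r s : R, ι s ≠ 0 ∧ y * ι s = ι r) :
    ValuationSubring L :=
  { ι.range with
    mem_or_inv_mem' := by
      intro y
      obtain ⟨r, s, hs, hy⟩ := h5 y
      obtain ⟨c, hc | hc⟩ := ValuationRing.cond r s
      · right
        refine ⟨c, ?_⟩
        have e : ι s * (y * ι c) = ι s * 1 := by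
          calc ι s * (y * ι c) = y * ι s * ι c := by ring
            _ = ι r * ι c := by rw [hy]
            _ = ι (r * c) := (map_mul ι r c).symm
            _ = ι s := by rw [hc]
            _ = ι s * 1 := (mul_one _).symm
        exact eq_inv_of_mul_eq_one_right (mul_left_cancel₀ hs e)
      · left
        refine ⟨c, ?_⟩
        have : y * ι s = ι c * ι s := by rw [hy, ← hc, map_mul, mul_comm]
        exact (mul_right_cancel₀ hs this).symm }

lemma mem_rangeVS (ι : R →+* L) (h5 : ∀ y : L, ∃ r s : R, ι s ≠ 0 ∧ y * ι s = ι r) (y : L) :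
    y ∈ rangeVS ι h5 ↔ ∃ r, ι r = y := Iff.rfl

theorem isTotallyRamified_of (φ : A →+* R) (ϖ : R) (hϖ : maximalIdeal R = Ideal.span {ϖ})
    (ι : R →+* L)
    (h1 : ∀ a ∈ maximalIdeal A, φ a ∈ maximalIdeal R)
    (h2 : ∀ r : R, ∃ a : A, r - φ a ∈ maximalIdeal R)
    (h3 : ∃ a ∈ maximalIdeal A, ∃ N : ℕ, ∃ r : R, ϖ ^ N = φ a * r)
    (h4 : ∀ r : R, ∃ f : A[X], f.Monic ∧ eval₂ φ r f = 0)
    (h5 : ∀ y : L, ∃ r s : R, ι s ≠ 0 ∧ y * ι s = ι r) :
    EtRam.IsTotallyRamified A (ι.comp φ) := by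
  have hT1 : EtRam.Dominates A (ι.comp φ) (rangeVS ι h5) := by
    refine ⟨fun a => (mem_rangeVS ι h5 _).mpr ⟨φ a, rfl⟩, fun a ha => ?_⟩
    by_cases h0 : (ι.comp φ) a = 0
    · rw [h0, map_zero]; exact zero_lt_one
    · apply val_lt_one_of_inv_notMem
      intro hmem
      obtain ⟨c, hc⟩ := (mem_rangeVS ι h5 _).mp hmem
      have h1' : ι (φ a * c) = 1 := by
        rw [map_mul, hc]; exact mul_inv_cancel₀ h0
      have hmem' : φ a * c ∈ maximalIdeal R := Ideal.mul_mem_right _ _ (h1 a ha)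
      have hu : IsUnit (1 - φ a * c) :=
        isUnit_one_sub_self_of_mem_nonunits _ ((mem_maximalIdeal _).mp hmem')
      have : ι (1 - φ a * c) = 0 := by rw [map_sub, map_one, h1', sub_self]
      exact (hu.map ι).ne_zero this
  have hdom : ∀ V : ValuationSubring L, EtRam.Dominates A (ι.comp φ) V →
      (∀ r, ι r ∈ V) ∧ V.valuation (ι ϖ) < 1 ∧ V = rangeVS ι h5 := by
    intro V hV
    have hR : ∀ r, ι r ∈ V := by
      intro r
      obtain ⟨f, hf, hr⟩ := h4 r
      refine mem_of_integral_hom V (ι.comp φ) hV.1 (ι r) f hf ?_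
      rw [← Polynomial.hom_eval₂, hr, map_zero]
    have hRle : ∀ r, V.valuation (ι r) ≤ 1 := fun r => (V.valuation_le_one_iff _).mpr (hR r)
    have hϖV : V.valuation (ι ϖ) < 1 := by
      obtain ⟨a, ha, N, r, hN⟩ := h3
      have h1' : V.valuation (ι (φ a)) < 1 := hV.2 a ha
      by_contra hcon
      push Not at hcon
      have h3' : 1 ≤ V.valuation (ι ϖ) ^ N := one_le_pow₀ hcon
      have h4' : V.valuation (ι ϖ) ^ N = V.valuation (ι (φ a)) * V.valuation (ι r) := by
        rw [← map_pow, ← map_pow, hN, map_mul, map_mul]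
      rw [h4'] at h3'
      have : V.valuation (ι (φ a)) * V.valuation (ι r) < 1 :=
        calc V.valuation (ι (φ a)) * V.valuation (ι r)
            ≤ V.valuation (ι (φ a)) * 1 := mul_le_mul' le_rfl (hRle r)
          _ = V.valuation (ι (φ a)) := mul_one _
          _ < 1 := h1'
      exact absurd h3' (not_le.mpr this)
    refine ⟨hR, hϖV, ?_⟩
    apply le_antisymm
    · intro y hy
      by_contra hy0
      have hinv : y⁻¹ ∈ rangeVS ι h5 := ((rangeVS ι h5).mem_or_inv_mem y).resolve_left hy0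
      obtain ⟨c, hc⟩ := (mem_rangeVS ι h5 _).mp hinv
      have hyne : y ≠ 0 := by rintro rfl; exact hy0 (zero_mem _)
      have hcnu : c ∈ maximalIdeal R := by
        rw [mem_maximalIdeal, mem_nonunits_iff]
        intro hcu
        obtain ⟨c', hc'⟩ := hcu.exists_right_inv
        apply hy0
        refine (mem_rangeVS ι h5 _).mpr ⟨c', ?_⟩
        have h : y⁻¹ * ι c' = 1 := by rw [← hc, ← map_mul, hc', map_one]
        have := eq_inv_of_mul_eq_one_right h
        rw [inv_inv] at this
        exact this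
      rw [hϖ, Ideal.mem_span_singleton] at hcnu
      obtain ⟨c', rfl⟩ := hcnu
      have hlt : V.valuation y⁻¹ < 1 := by
        rw [← hc, map_mul, map_mul]
        calc V.valuation (ι ϖ) * V.valuation (ι c')
            ≤ V.valuation (ι ϖ) * 1 := mul_le_mul' le_rfl (hRle c')
          _ = V.valuation (ι ϖ) := mul_one _
          _ < 1 := hϖV
      have hle : V.valuation y ≤ 1 := (V.valuation_le_one_iff _).mpr hy
      have h1' : V.valuation y * V.valuation y⁻¹ = 1 := by
        rw [← map_mul, mul_inv_cancel₀ hyne, map_one]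
      have : V.valuation y * V.valuation y⁻¹ < 1 :=
        calc V.valuation y * V.valuation y⁻¹ ≤ 1 * V.valuation y⁻¹ := mul_le_mul' hle le_rfl
          _ = V.valuation y⁻¹ := one_mul _
          _ < 1 := hlt
      rw [h1'] at this
      exact lt_irrefl _ this
    · intro y hy
      obtain ⟨r, rfl⟩ := (mem_rangeVS ι h5 _).mp hy
      exact hR r
  refine ⟨⟨rangeVS ι h5, hT1⟩,
    fun V V' hV hV' => (hdom V hV).2.2.trans (hdom V' hV').2.2.symm, ?_⟩
  intro V hV z
  obtain ⟨hR, hϖV, hVeq⟩ := hdom V hV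
  obtain ⟨v, rfl⟩ := IsLocalRing.residue_surjective z
  have hv : (v : L) ∈ rangeVS ι h5 := by rw [← hVeq]; exact v.2
  obtain ⟨r, hr⟩ := (mem_rangeVS ι h5 _).mp hv
  obtain ⟨a, ha⟩ := h2 r
  refine ⟨a, ?_⟩
  show IsLocalRing.residue V (RingHom.codRestrict (ι.comp φ) V hV.1 a) = IsLocalRing.residue V v
  rw [← sub_eq_zero, ← map_sub, IsLocalRing.residue_eq_zero_iff,
    ValuationSubring.valuation_lt_one_iff]
  rw [hϖ, Ideal.mem_span_singleton] at ha
  obtain ⟨c, hc⟩ := ha
  have e : ((RingHom.codRestrict (ι.comp φ) V hV.1 a - v : V) : L) = ι (φ a) - (v : L) := rfl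
  have e2 : ι (φ a) - (v : L) = -(ι ϖ * ι c) := by
    rw [← map_mul, ← hc, map_sub, neg_sub, hr]
  rw [e, e2, Valuation.map_neg, map_mul]
  calc V.valuation (ι ϖ) * V.valuation (ι c)
      ≤ V.valuation (ι ϖ) * 1 :=
        mul_le_mul' le_rfl ((V.valuation_le_one_iff _).mpr (hR c))
    _ = V.valuation (ι ϖ) := mul_one _
    _ < 1 := hϖV

end Crit

end Groth.Agent.H8.TotRam
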