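import Mathlib
import Groth.Prelude.Def_EtRam
import Groth.Agent.Lib.Helper8.Tame.HensRoots
import Groth.Agent.Lib.Helper8.TotRam.Crit

/-!
# Eisenstein extensions `X^q - π^n X - π` of a DVR (S7157)
-/

set_option autoImplicit false
universe u

namespace Groth.Agent.H8.TotRam

open Polynomial IsLocalRing

section Eis

variable {A : Type u} [CommRing A] [IsDomain A] [IsDiscreteValuationRing A]

/-- the Eisenstein polynomial `X^q - π^n X - π`. -/
noncomputable def PA (π : A) (n q : ℕ) : A[X] := X ^ q - (C (π ^ n) * X + C π)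

omit [IsDomain A] [IsDiscreteValuationRing A] in
lemma eval₂_PA {S : Type*} [CommRing S] (π : A) (n q : ℕ) (f : A →+* S) (x : S) :
    eval₂ f x (PA π n q) = x ^ q - (f (π ^ n) * x + f π) := by
  unfold PA
  rw [eval₂_sub, eval₂_add, eval₂_mul, eval₂_pow, eval₂_X, eval₂_C, eval₂_C]

variable (π : A) (hπ : maximalIdeal A = Ideal.span {π}) (n q : ℕ) (hn : 1 ≤ n) (hq : 2 ≤ q)

include hq in
lemma PA_monic : (PA π n q).Monic := by
  apply monic_X_pow_sub
  exact degree_linear_le.trans_lt (by exact_mod_cast hq)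

include hq in
lemma PA_natDegree : (PA π n q).natDegree = q := by
  unfold PA
  have h : (C (π ^ n) * X + C π : A[X]).natDegree < (X ^ q : A[X]).natDegree := by
    rw [natDegree_X_pow]
    exact lt_of_le_of_lt natDegree_linear_le hq
  rw [natDegree_sub_eq_left_of_natDegree_lt h, natDegree_X_pow]

include hπ in
lemma pi_mem : π ∈ maximalIdeal A := by
  rw [hπ]; exact Ideal.mem_span_singleton_self π

include hπ hn in
lemma PA_coeff_mem {i : ℕ} (hi : i < q) : (PA π n q).coeff i ∈ maximalIdeal A := by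
  have hπm := pi_mem π hπ
  unfold PA
  rw [coeff_sub, coeff_X_pow, if_neg hi.ne, zero_sub, neg_mem_iff, coeff_add, coeff_C_mul_X,
    coeff_C]
  refine Ideal.add_mem _ ?_ ?_
  · split_ifs
    · exact Ideal.pow_mem_of_mem _ hπm n hn
    · exact zero_mem _
  · split_ifs
    · exact hπm
    · exact zero_mem _

include hq in
lemma PA_coeff_zero : (PA π n q).coeff 0 = -π := by
  unfold PA
  have h0 : (0 : ℕ) ≠ q := by omega
  rw [coeff_sub, coeff_X_pow, if_neg h0, coeff_add, coeff_C_mul_X, coeff_C_zero,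
    if_neg (by decide : (0 : ℕ) ≠ 1), zero_add, zero_sub]

include hq in
lemma PA_coeff_one : (PA π n q).coeff 1 = -π ^ n := by
  unfold PA
  have h0 : (1 : ℕ) ≠ q := by omega
  rw [coeff_sub, coeff_X_pow, if_neg h0, coeff_add, coeff_C_mul_X, if_pos rfl, coeff_C,
    if_neg (by decide : (1 : ℕ) ≠ 0), add_zero, zero_sub]

include hπ hn hq in
lemma PA_eis : (PA π n q).IsEisensteinAt (maximalIdeal A) := by
  refine ⟨?_, ?_, ?_⟩
  · rw [(PA_monic π n q hq).leadingCoeff]
    exact fun h => (Ideal.ne_top_iff_one _).1 (maximalIdeal.isMaximal A).ne_top h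
  · intro i hi
    rw [PA_natDegree π n q hq] at hi
    exact PA_coeff_mem π hπ n q hn hi
  · rw [PA_coeff_zero π n q hq, neg_mem_iff]
    exact Groth.Agent.H8.Tame.notMem_sq_of_irreducible π
      ((IsDiscreteValuationRing.irreducible_iff_uniformizer π).mpr hπ)

include hπ hn hq in
theorem exists_eisR :
    ∃ (R : Type u) (_ : CommRing R) (_ : IsDomain R) (_ : ValuationRing R) (_ : IsLocalRing R)
      (φ : A →+* R) (ϖ : R),
      maximalIdeal R = Ideal.span {ϖ} ∧
      (∀ a ∈ maximalIdeal A, φ a ∈ maximalIdeal R) ∧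
      (∀ r : R, ∃ a : A, r - φ a ∈ maximalIdeal R) ∧
      (∀ r : R, ∃ f : A[X], f.Monic ∧ eval₂ φ r f = 0) ∧
      ϖ ^ q = φ (π ^ n) * ϖ + φ π ∧
      (∀ r : R, ∃ f : A[X], r = eval₂ φ ϖ f) ∧
      (∀ (S : Type u) [CommRing S] (ψ : A →+* S) (x : S), x ^ q = ψ (π ^ n) * x + ψ π →
        ∃ ι : R →+* S, ι.comp φ = ψ ∧ ι ϖ = x) := by
  classical
  have hmon : (PA π n q).Monic := PA_monic π n q hq
  have hdeg : (PA π n q).natDegree = q := PA_natDegree π n q hq
  have hq0 : q ≠ 0 := by omega
  have hπm : π ∈ maximalIdeal A := pi_mem π hπ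
  have hirr : Irreducible (PA π n q) :=
    (PA_eis π hπ n q hn hq).irreducible (maximalIdeal.isMaximal A).isPrime hmon.isPrimitive
      (by rw [hdeg]; omega)
  have hprime : Prime (PA π n q) := UniqueFactorizationMonoid.irreducible_iff_prime.mp hirr
  have hdom : IsDomain (AdjoinRoot (PA π n q)) := AdjoinRoot.isDomain_of_prime hprime
  have hfin : Module.Finite A (AdjoinRoot (PA π n q)) := hmon.finite_adjoinRoot
  have : Algebra.IsIntegral A (AdjoinRoot (PA π n q)) := Algebra.IsIntegral.of_finite A _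
  have hnoeth : IsNoetherianRing (AdjoinRoot (PA π n q)) :=
    Algebra.FiniteType.isNoetherianRing A _
  have hroot : (AdjoinRoot.root (PA π n q)) ^ q =
      AdjoinRoot.of (PA π n q) (π ^ n) * AdjoinRoot.root (PA π n q) +
        AdjoinRoot.of (PA π n q) π := by
    have h := AdjoinRoot.eval₂_root (PA π n q)
    rw [eval₂_PA] at h
    exact sub_eq_zero.mp h
  let χ : AdjoinRoot (PA π n q) →+* ResidueField A := AdjoinRoot.lift (residue A) 0 (by
    rw [eval₂_PA, zero_pow hq0, mul_zero, zero_add, (residue_eq_zero_iff π).mpr hπm, sub_zero])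
  have hχroot : χ (AdjoinRoot.root (PA π n q)) = 0 := AdjoinRoot.lift_root _
  have hdec : ∀ r : AdjoinRoot (PA π n q), ∃ (a : A) (s : AdjoinRoot (PA π n q)),
      r = AdjoinRoot.of (PA π n q) a + AdjoinRoot.root (PA π n q) * s := by
    intro r
    obtain ⟨f, rfl⟩ := AdjoinRoot.mk_surjective r
    refine ⟨f.coeff 0, AdjoinRoot.mk _ f.divX, ?_⟩
    conv_lhs => rw [← divX_mul_X_add f]
    rw [map_add, map_mul, AdjoinRoot.mk_X, AdjoinRoot.mk_C]; ring
  have hjac : AdjoinRoot.root (PA π n q) ∈
      Ideal.jacobson (⊥ : Ideal (AdjoinRoot (PA π n q))) := by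
    rw [Ideal.jacobson, Ideal.mem_sInf]
    rintro M ⟨-, hM⟩
    have := hM
    have hcomap : M.comap (algebraMap A (AdjoinRoot (PA π n q))) = maximalIdeal A :=
      eq_maximalIdeal (Ideal.isMaximal_comap_of_isIntegral_of_isMaximal M)
    have hπM : AdjoinRoot.of (PA π n q) π ∈ M := by
      have h : π ∈ M.comap (algebraMap A (AdjoinRoot (PA π n q))) := by rw [hcomap]; exact hπm
      have h' : algebraMap A (AdjoinRoot (PA π n q)) π ∈ M := Ideal.mem_comap.mp h
      rwa [AdjoinRoot.algebraMap_eq] at h'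
    have : AdjoinRoot.root (PA π n q) ^ q ∈ M := by
      rw [hroot]
      refine M.add_mem (M.mul_mem_right _ ?_) hπM
      rw [map_pow]; exact Ideal.pow_mem_of_mem _ hπM n hn
    exact hM.isPrime.mem_of_pow_mem q this
  have hunit : ∀ (a : A) (s : AdjoinRoot (PA π n q)), IsUnit a →
      IsUnit (AdjoinRoot.of (PA π n q) a + AdjoinRoot.root (PA π n q) * s) := by
    intro a s ha
    have hu : IsUnit (AdjoinRoot.of (PA π n q) a) := ha.map _
    have h1 : AdjoinRoot.of (PA π n q) a * ↑hu.unit⁻¹ = 1 := hu.mul_val_inv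
    have h2 := Ideal.mem_jacobson_bot.mp hjac (↑hu.unit⁻¹ * s)
    have e : AdjoinRoot.of (PA π n q) a + AdjoinRoot.root (PA π n q) * s =
        AdjoinRoot.of (PA π n q) a * (AdjoinRoot.root (PA π n q) * (↑hu.unit⁻¹ * s) + 1) := by
      linear_combination (-(AdjoinRoot.root (PA π n q) * s)) * h1
    rw [e]; exact hu.mul h2
  have hloc : IsLocalRing (AdjoinRoot (PA π n q)) := by
    apply IsLocalRing.of_isUnit_or_isUnit_one_sub_self
    intro r
    obtain ⟨a, s, rfl⟩ := hdec r
    by_cases ha : IsUnit a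
    · exact Or.inl (hunit a s ha)
    · right
      have h1a : IsUnit (1 - a) := isUnit_one_sub_self_of_mem_nonunits a ha
      have := hunit (1 - a) (-s) h1a
      convert this using 1
      rw [map_sub, map_one]; ring
  have hpow : AdjoinRoot.root (PA π n q) ^ q =
      AdjoinRoot.root (PA π n q) * AdjoinRoot.root (PA π n q) ^ (q - 1) := by
    rw [← pow_succ', Nat.sub_add_cancel (by omega)]
  have hdvd : AdjoinRoot.root (PA π n q) ∣ AdjoinRoot.of (PA π n q) π :=
    ⟨AdjoinRoot.root (PA π n q) ^ (q - 1) - AdjoinRoot.of (PA π n q) (π ^ n), by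
      linear_combination hpow - hroot⟩
  have hmax : maximalIdeal (AdjoinRoot (PA π n q)) = Ideal.span {AdjoinRoot.root (PA π n q)} := by
    ext r
    rw [mem_maximalIdeal, mem_nonunits_iff, Ideal.mem_span_singleton]
    constructor
    · intro hr
      obtain ⟨a, s, rfl⟩ := hdec r
      have ha : ¬ IsUnit a := fun h => hr (hunit a s h)
      have ham : a ∈ maximalIdeal A := (mem_maximalIdeal a).mpr ha
      rw [hπ, Ideal.mem_span_singleton] at ham
      obtain ⟨a', rfl⟩ := ham
      rw [map_mul]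
      exact dvd_add (Dvd.dvd.mul_right hdvd _) (dvd_mul_right _ _)
    · rintro ⟨t, rfl⟩ hu
      have h1 : IsUnit (AdjoinRoot.root (PA π n q)) := isUnit_of_mul_isUnit_left hu
      have h2 := h1.map χ
      rw [hχroot] at h2
      exact not_isUnit_zero h2
  have hval : ValuationRing (AdjoinRoot (PA π n q)) :=
    ((tfae_of_isNoetherianRing_of_isLocalRing_of_isDomain (AdjoinRoot (PA π n q))).out 4 1).mp
      (show (maximalIdeal (AdjoinRoot (PA π n q))).IsPrincipal from ⟨⟨_, hmax⟩⟩)
  refine ⟨AdjoinRoot (PA π n q), inferInstance, hdom, hval, hloc, AdjoinRoot.of (PA π n q),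
    AdjoinRoot.root (PA π n q), hmax, ?_, ?_, ?_, hroot, ?_, ?_⟩
  · intro a ha
    rw [hπ, Ideal.mem_span_singleton] at ha
    obtain ⟨a', rfl⟩ := ha
    rw [hmax, Ideal.mem_span_singleton, map_mul]
    exact Dvd.dvd.mul_right hdvd _
  · intro r
    obtain ⟨a, s, rfl⟩ := hdec r
    refine ⟨a, ?_⟩
    rw [hmax, Ideal.mem_span_singleton]
    exact ⟨s, by ring⟩
  · intro r
    obtain ⟨f, hf, hr⟩ := Algebra.IsIntegral.isIntegral (R := A) r
    rw [AdjoinRoot.algebraMap_eq] at hr
    exact ⟨f, hf, hr⟩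
  · intro r
    obtain ⟨f, rfl⟩ := AdjoinRoot.mk_surjective r
    refine ⟨f, ?_⟩
    rw [← AdjoinRoot.aeval_eq, aeval_def, AdjoinRoot.algebraMap_eq]
  · intro S _ ψ x hx
    have hev : eval₂ ψ x (PA π n q) = 0 := by rw [eval₂_PA, hx, sub_self]
    exact ⟨AdjoinRoot.lift ψ x hev, RingHom.ext (fun a => AdjoinRoot.lift_of hev),
      AdjoinRoot.lift_root hev⟩


include hπ hn hq in
theorem exists_eisL (K : Type u) [Field K] [Algebra A K] [IsFractionRing A K] :
    ∃ (L : Type u) (_ : Field L) (_ : Algebra K L) (_ : FiniteDimensional K L) (x : L),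
      Algebra.adjoin K {x} = ⊤ ∧ Module.finrank K L = q ∧
      x ^ q = algebraMap K L (algebraMap A K (π ^ n)) * x + algebraMap K L (algebraMap A K π) ∧
      IsSeparable K x := by
  have hmon : (PA π n q).Monic := PA_monic π n q hq
  have hdeg : (PA π n q).natDegree = q := PA_natDegree π n q hq
  have hirr : Irreducible ((PA π n q).map (algebraMap A K)) :=
    Groth.Agent.H8.Tame.irreducible_map_of_eisenstein K _ hmon (by rw [hdeg]; omega)
      (PA_eis π hπ n q hn hq)
  have := Fact.mk hirr
  have hg0 : (PA π n q).map (algebraMap A K) ≠ 0 := hirr.ne_zero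
  have hπ0 : π ≠ 0 := by
    rintro rfl
    apply IsDiscreteValuationRing.not_a_field A
    rw [hπ]; simp
  have hinj : Function.Injective (algebraMap A K) := IsFractionRing.injective A K
  have hsep : ((PA π n q).map (algebraMap A K)).Separable := by
    rw [separable_iff_derivative_ne_zero hirr]
    intro h
    have h1 := congrArg (fun f => f.coeff 0) h
    simp only [coeff_derivative, coeff_map, coeff_zero, zero_add, Nat.cast_zero, mul_one] at h1
    rw [PA_coeff_one π n q hq, map_neg, neg_eq_zero, map_pow] at h1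
    exact hπ0 ((map_eq_zero_iff _ hinj).mp (pow_eq_zero_iff (by omega) |>.mp h1))
  refine ⟨AdjoinRoot ((PA π n q).map (algebraMap A K)), inferInstance, inferInstance,
    (AdjoinRoot.powerBasis hg0).finite, AdjoinRoot.root _, AdjoinRoot.adjoinRoot_eq_top, ?_, ?_, ?_⟩
  · rw [(AdjoinRoot.powerBasis hg0).finrank, AdjoinRoot.powerBasis_dim, hmon.natDegree_map, hdeg]
  · have h := AdjoinRoot.eval₂_root ((PA π n q).map (algebraMap A K))
    rw [eval₂_map, eval₂_PA] at h
    exact sub_eq_zero.mp h
  · have h0 : aeval (AdjoinRoot.root ((PA π n q).map (algebraMap A K)))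
        ((PA π n q).map (algebraMap A K)) = 0 := by
      rw [AdjoinRoot.aeval_eq, AdjoinRoot.mk_self]
    exact hsep.of_dvd (minpoly.dvd K _ h0)

end Eis

section Main

open Polynomial IsLocalRing

theorem main (p : ℕ) (hp : p.Prime) (A K : Type u)
    [CommRing A] [IsDomain A] [IsDiscreteValuationRing A] [Field K] [Algebra A K]
    [IsFractionRing A K]
    [CharP (IsLocalRing.ResidueField A) p] (π : A)
    (hπ : IsLocalRing.maximalIdeal A = Ideal.span {π})
    (n : ℕ) (hn : 1 < n) (k : ℕ) :
    ∃ (L : Type u) (_ : Field L) (_ : Algebra K L) (_ : Algebra A L) (_ : IsScalarTower A K L),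
      Module.finrank K L = p ^ k ∧ Algebra.IsSeparable K L ∧
      EtRam.IsTotallyRamified A (algebraMap A L) ∧
      ∃ πB b b' : L, πB ∈ integralClosure A L ∧ b ∈ integralClosure A L ∧
        b' ∈ integralClosure A L ∧
        πB ^ (p ^ k) = algebraMap A L π + algebraMap A L π ^ n * b ∧
        πB ^ (p ^ k) = algebraMap A L π + πB ^ (n * p ^ k) * b' := by
  have hπm : π ∈ maximalIdeal A := pi_mem π hπ
  rcases Nat.eq_zero_or_pos k with rfl | hk
  · refine ⟨K, inferInstance, inferInstance, inferInstance, inferInstance, by simp,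
      inferInstance, ?_, algebraMap A K π, 0, 0, isIntegral_algebraMap, zero_mem _, zero_mem _,
      by simp, by simp⟩
    have h := isTotallyRamified_of (RingHom.id A) π hπ (algebraMap A K)
      (fun a ha => ha) (fun r => ⟨r, by simp⟩) ⟨π, hπm, 1, 1, by simp⟩
      (fun r => ⟨X - C r, monic_X_sub_C r, by simp⟩)
      (fun y => by
        obtain ⟨a, s, hs, rfl⟩ := IsFractionRing.div_surjective (A := A) y
        have hs0 : algebraMap A K s ≠ 0 :=
          IsFractionRing.to_map_ne_zero_of_mem_nonZeroDivisors hs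
        exact ⟨a, s, hs0, div_mul_cancel₀ _ hs0⟩)
    rwa [RingHom.comp_id] at h
  · have hq : 2 ≤ p ^ k := le_trans hp.two_le (Nat.le_self_pow hk.ne' p)
    have hn1 : 1 ≤ n := by omega
    obtain ⟨R, _, _, _, _, φ, ϖ, hmax, h1, h2, h4, hrel, hpoly, huniv⟩ :=
      exists_eisR π hπ n (p ^ k) hn1 hq
    obtain ⟨L, _, _, _, x, hadj, hfr, hxrel, hxsep⟩ := exists_eisL π hπ n (p ^ k) hn1 hq K
    letI : Algebra A L := ((algebraMap K L).comp (algebraMap A K)).toAlgebra
    haveI : IsScalarTower A K L := IsScalarTower.of_algebraMap_eq (fun _ => rfl)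
    have hxrel' : x ^ (p ^ k) = algebraMap A L (π ^ n) * x + algebraMap A L π := hxrel
    obtain ⟨ι, hιφ, hιϖ⟩ := huniv L (algebraMap A L) x hxrel'
    have hιφ' : ∀ a, ι (φ a) = algebraMap A L a := fun a => by
      rw [← hιφ]; rfl
    have hinjAL : Function.Injective (algebraMap A L) :=
      (algebraMap K L).injective.comp (IsFractionRing.injective A K)
    -- h5
    have h5 : ∀ y : L, ∃ r s : R, ι s ≠ 0 ∧ y * ι s = ι r := by
      intro y
      have hy : y ∈ Algebra.adjoin K {x} := by rw [hadj]; exact Algebra.mem_top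
      rw [Algebra.adjoin_singleton_eq_range_aeval] at hy
      obtain ⟨f, rfl⟩ := hy
      obtain ⟨b, hb, hfb⟩ := IsLocalization.integerNormalization_spec (nonZeroDivisors A) f
      refine ⟨eval₂ φ ϖ (IsLocalization.integerNormalization (nonZeroDivisors A) f), φ b, ?_, ?_⟩
      · rw [hιφ']
        exact fun h => nonZeroDivisors.ne_zero hb (hinjAL (by rw [h, map_zero]))
      · have e1 : ι (eval₂ φ ϖ (IsLocalization.integerNormalization (nonZeroDivisors A) f)) =
            aeval x ((IsLocalization.integerNormalization (nonZeroDivisors A) f).map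
              (algebraMap A K)) := by
          rw [Polynomial.hom_eval₂, hιφ, hιϖ, aeval_map_algebraMap, aeval_def]
        rw [e1, hfb, ← algebraMap_smul K b f, Polynomial.smul_eq_C_mul, map_mul, aeval_C, hιφ',
          mul_comm]
        rfl
    have hTR : EtRam.IsTotallyRamified A (algebraMap A L) := by
      have h := isTotallyRamified_of φ ϖ hmax ι h1 h2
        ⟨π, hπm, p ^ k, φ (π ^ (n - 1)) * ϖ + 1, by
          rw [hrel]
          have : π ^ n = π * π ^ (n - 1) := by
            rw [← pow_succ', Nat.sub_add_cancel hn1]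
          rw [this, map_mul]; ring⟩ h4 h5
      rwa [hιφ] at h
    -- separability
    have hsepL : Algebra.IsSeparable K L := by
      rw [← IntermediateField.isSeparable_top]
      have hint : IsIntegral K x := IsSeparable.isIntegral hxsep
      have htop : IntermediateField.adjoin K {x} = ⊤ := by
        apply IntermediateField.toSubalgebra_injective
        rw [IntermediateField.adjoin_simple_toSubalgebra_of_isAlgebraic hint.isAlgebraic, hadj,
          IntermediateField.top_toSubalgebra]
      rw [← htop]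
      exact (IntermediateField.isSeparable_adjoin_simple_iff_isSeparable K L).mpr hxsep
    -- integrality of ι r
    have hintL : ∀ r : R, IsIntegral A (ι r) := by
      intro r
      obtain ⟨f, hf, hr⟩ := h4 r
      refine ⟨f, hf, ?_⟩
      have := Polynomial.hom_eval₂ f φ ι r
      rw [hr, map_zero, hιφ] at this
      exact this.symm
    -- the unit u
    obtain ⟨u, hu⟩ : ∃ u : R, u = φ (π ^ (n - 1)) * ϖ + 1 := ⟨_, rfl⟩
    have huu : IsUnit u := by
      by_contra hnu
      have hum : u ∈ maximalIdeal R := (mem_maximalIdeal u).mpr hnu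
      have hϖm : ϖ ∈ maximalIdeal R := by rw [hmax]; exact Ideal.mem_span_singleton_self ϖ
      have h1m : (1 : R) ∈ maximalIdeal R := by
        have : (1 : R) = u - φ (π ^ (n - 1)) * ϖ := by rw [hu]; ring
        rw [this]; exact Ideal.sub_mem _ hum (Ideal.mul_mem_left _ _ hϖm)
      exact (Ideal.ne_top_iff_one _).mp (maximalIdeal.isMaximal R).ne_top h1m
    have hxq : x ^ (p ^ k) = algebraMap A L π * ι u := by
      rw [← hιϖ, ← map_pow, hrel, hu, ← hιφ', ← map_mul]
      congr 1
      have : π ^ n = π * π ^ (n - 1) := by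
        rw [← pow_succ', Nat.sub_add_cancel hn1]
      rw [this, map_mul]; ring
    have huinv : ι u * ι (↑huu.unit⁻¹ : R) = 1 := by
      rw [← map_mul, huu.mul_val_inv, map_one]
    have hx1 : x ^ (p ^ k) = algebraMap A L π + algebraMap A L π ^ n * x := by
      rw [hxrel', map_pow]; ring
    refine ⟨L, inferInstance, inferInstance, inferInstance, inferInstance, hfr, hsepL, hTR,
      x, x, x * ι (↑huu.unit⁻¹ : R) ^ n, ?_, ?_, ?_, hx1, ?_⟩
    · rw [← hιϖ]; exact hintL ϖ
    · rw [← hιϖ]; exact hintL ϖ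
    · have : x * ι (↑huu.unit⁻¹ : R) ^ n = ι (ϖ * (↑huu.unit⁻¹ : R) ^ n) := by
        rw [map_mul, map_pow, hιϖ]
      rw [this]; exact hintL _
    · rw [hx1, pow_mul', hxq, mul_pow]
      have : algebraMap A L π ^ n * ι u ^ n * (x * ι (↑huu.unit⁻¹ : R) ^ n) =
          algebraMap A L π ^ n * x * (ι u * ι (↑huu.unit⁻¹ : R)) ^ n := by ring
      rw [this, huinv, one_pow, mul_one]

end Main

end Groth.Agent.H8.TotRam
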